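import Mathlib.AlgebraicGeometry.EllipticCurve.VariableChange
import Mathlib.RingTheory.Etale.StandardEtale
import Mathlib.RingTheory.Etale.Basic
import Mathlib.FieldTheory.IsAlgClosed.Basic
import Mathlib.RingTheory.Localization.Away.Basic
import Mathlib.Tactic

/-!
# Weierstrass cubics with equal `j ≠ 0, 1728` are étale-locally isomorphic: the normal forms
-/

set_option autoImplicit false

universe u

open Polynomial

namespace Groth.Agent.EllJIsom

variable {Ω : Type u} [Field Ω]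

/-- An isomorphism exists on an étale neighbourhood of the geometric point `ρ`. -/
def IsLocIso (A : Type u) [CommRing A] (ρ : A →+* Ω) (W W' : WeierstrassCurve A) : Prop :=
  ∃ (B : Type u) (_ : CommRing B) (_ : Algebra A B), Algebra.Etale A B ∧
    (∃ φ : B →+* Ω, φ.comp (algebraMap A B) = ρ) ∧
    ∃ C : WeierstrassCurve.VariableChange B,
      C • W.map (algebraMap A B) = W'.map (algebraMap A B)

/-- The conditions and the equation of equal invariants `j ≠ 0, 1728`. -/
structure Adm {A : Type u} [CommRing A] (W W' : WeierstrassCurve A) : Prop where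
  c4 : IsUnit W.c₄
  c4' : IsUnit W'.c₄
  c6 : IsUnit W.c₆
  c6' : IsUnit W'.c₆
  eq : W.c₄ ^ 3 * W'.Δ = W'.c₄ ^ 3 * W.Δ

variable {A : Type u} [CommRing A] {ρ : A →+* Ω} {W W' : WeierstrassCurve A}

lemma Adm.symm (h : Adm W W') : Adm W' W := ⟨h.c4', h.c4, h.c6', h.c6, h.eq.symm⟩

lemma Adm.map {B : Type u} [CommRing B] (f : A →+* B) (h : Adm W W') : Adm (W.map f) (W'.map f) := by
  refine ⟨?_, ?_, ?_, ?_, ?_⟩ <;>
    simp only [WeierstrassCurve.map_c₄, WeierstrassCurve.map_c₆, WeierstrassCurve.map_Δ]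
  · exact h.c4.map f
  · exact h.c4'.map f
  · exact h.c6.map f
  · exact h.c6'.map f
  · rw [← map_pow, ← map_pow, ← map_mul, ← map_mul, h.eq]

lemma Adm.smul (C : WeierstrassCurve.VariableChange A) (h : Adm W W') : Adm (C • W) W' := by
  refine ⟨?_, h.c4', ?_, h.c6', ?_⟩
  · rw [W.variableChange_c₄ C]; exact (C.u⁻¹.isUnit.pow 4).mul h.c4
  · rw [W.variableChange_c₆ C]; exact (C.u⁻¹.isUnit.pow 6).mul h.c6
  · rw [W.variableChange_c₄ C, W.variableChange_Δ C]
    linear_combination ((C.u⁻¹ : Aˣ) : A) ^ 12 * h.eq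

lemma IsLocIso.smul_left (C : WeierstrassCurve.VariableChange A) (h : IsLocIso A ρ (C • W) W') :
    IsLocIso A ρ W W' := by
  obtain ⟨B, _, _, he, hφ, D, hD⟩ := h
  refine ⟨B, _, _, he, hφ, D * C.map (algebraMap A B), ?_⟩
  rw [mul_smul, WeierstrassCurve.map_variableChange, hD]

lemma IsLocIso.symm (h : IsLocIso A ρ W W') : IsLocIso A ρ W' W := by
  obtain ⟨B, _, _, he, hφ, D, hD⟩ := h
  exact ⟨B, _, _, he, hφ, D⁻¹, by rw [← hD, inv_smul_smul]⟩

lemma IsLocIso.of_smul_eq (C : WeierstrassCurve.VariableChange A) (h : C • W = W') :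
    IsLocIso A ρ W W' :=
  ⟨A, inferInstance, Algebra.id A, inferInstance, ⟨ρ, rfl⟩, C, by subst h; rfl⟩

lemma IsLocIso.of_etale {B : Type u} [CommRing B] [Algebra A B] [Algebra.Etale A B] {φ : B →+* Ω}
    (hφ : φ.comp (algebraMap A B) = ρ)
    (h : IsLocIso B φ (W.map (algebraMap A B)) (W'.map (algebraMap A B))) : IsLocIso A ρ W W' := by
  obtain ⟨B', _, _, he, ⟨ψ, hψ⟩, D, hD⟩ := h
  letI : Algebra A B' := ((algebraMap B B').comp (algebraMap A B)).toAlgebra
  have : IsScalarTower A B B' := IsScalarTower.of_algebraMap_eq fun _ => rfl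
  refine ⟨B', _, _, Algebra.Etale.comp A B B', ⟨ψ, ?_⟩, D, hD⟩
  show ψ.comp ((algebraMap B B').comp (algebraMap A B)) = ρ
  rw [← RingHom.comp_assoc, hψ, hφ]

/-- Inverting an element that does not vanish at the point. -/
lemma exists_away (ρ : A →+* Ω) {x : A} (hx : ρ x ≠ 0) :
    ∃ (B : Type u) (_ : CommRing B) (_ : Algebra A B), Algebra.Etale A B ∧
      (∃ φ : B →+* Ω, φ.comp (algebraMap A B) = ρ) ∧ IsUnit (algebraMap A B x) :=
  ⟨Localization.Away x, _, _, Algebra.Etale.of_isLocalizationAway x,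
    ⟨IsLocalization.Away.lift (S := Localization.Away x) x hx.isUnit,
      IsLocalization.Away.lift_comp x hx.isUnit⟩,
    IsLocalization.Away.algebraMap_isUnit x⟩

/-- A quadratic equation with nonvanishing discriminant acquires a unit root. -/
lemma exists_root [IsAlgClosed Ω] (ρ : A →+* Ω) (b c : A) (hd : ρ (b ^ 2 - 4 * c) ≠ 0) :
    ∃ (B : Type u) (_ : CommRing B) (_ : Algebra A B), Algebra.Etale A B ∧
      (∃ φ : B →+* Ω, φ.comp (algebraMap A B) = ρ) ∧
      ∃ z : B, IsUnit z ∧ z ^ 2 + algebraMap A B b * z + algebraMap A B c = 0 := by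
  haveI : Nontrivial A := ρ.domain_nontrivial
  have hderiv : derivative (X ^ 2 + C b * X + C c : A[X]) = 2 * X + C b := by
    simp [derivative_pow, C_ofNat]
  let P : StandardEtalePair A :=
    { f := X ^ 2 + C b * X + C c
      monic_f := by monicity!
      g := C (b ^ 2 - 4 * c) * X
      cond := ⟨(2 * X + C b) * X, -4 * X, 1, by
        rw [hderiv, pow_one, C_sub, C_pow, C_mul, C_ofNat]
        ring⟩ }
  letI : Algebra A Ω := ρ.toAlgebra
  obtain ⟨z, hz, hz0⟩ : ∃ z : Ω, z ^ 2 + ρ b * z + ρ c = 0 ∧ z ≠ 0 := by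
    obtain ⟨z, hz⟩ := IsAlgClosed.exists_root (X ^ 2 + C (ρ b) * X + C (ρ c) : Polynomial Ω) (by
      rw [show (X ^ 2 + C (ρ b) * X + C (ρ c) : Polynomial Ω).degree = 2 by compute_degree!]
      decide)
    have hz' : z ^ 2 + ρ b * z + ρ c = 0 := by simpa [IsRoot] using hz
    by_cases hz0 : z = 0
    · refine ⟨-ρ b, by rw [hz0] at hz'; linear_combination hz', fun h => hd ?_⟩
      rw [hz0] at hz'
      have hb : ρ b = 0 := neg_eq_zero.mp h
      have hc : ρ c = 0 := by linear_combination hz'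
      simp [hb, hc]
    · exact ⟨z, hz', hz0⟩
  have hmap : P.HasMap z := by
    refine ⟨?_, ?_⟩
    · show aeval z (X ^ 2 + C b * X + C c : A[X]) = 0
      simpa [RingHom.algebraMap_toAlgebra] using hz
    · show IsUnit (aeval z (C (b ^ 2 - 4 * c) * X : A[X]))
      rw [map_mul, aeval_C, aeval_X]
      exact (mul_ne_zero hd hz0).isUnit
  refine ⟨P.Ring, inferInstance, inferInstance, inferInstance,
    ⟨(P.lift z hmap).toRingHom, (P.lift z hmap).comp_algebraMap⟩, P.X, ?_, ?_⟩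
  · have h := P.hasMap_X.2
    rw [show P.g = C (b ^ 2 - 4 * c) * X from rfl, map_mul, aeval_C, aeval_X] at h
    exact isUnit_of_mul_isUnit_right h
  · have h := P.hasMap_X.1
    rw [show P.f = X ^ 2 + C b * X + C c from rfl] at h
    simpa using h

/-- A quadratic with invertible linear coefficient whose modified discriminant does not vanish
acquires a root. -/
lemma exists_root' [IsAlgClosed Ω] (ρ : A →+* Ω) (a b c : A) (hb : IsUnit b)
    (hd : ρ (b ^ 2 - 4 * a * c) ≠ 0) :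
    ∃ (B : Type u) (_ : CommRing B) (_ : Algebra A B), Algebra.Etale A B ∧
      (∃ φ : B →+* Ω, φ.comp (algebraMap A B) = ρ) ∧
      ∃ t : B, algebraMap A B a * t ^ 2 + algebraMap A B b * t + algebraMap A B c = 0 := by
  obtain ⟨b, rfl⟩ := hb
  have hd' : ρ (1 ^ 2 - 4 * (a * c * (↑b⁻¹ : A) ^ 2)) ≠ 0 := by
    intro h
    refine hd ?_
    have e : (b : A) ^ 2 - 4 * a * c = (b : A) ^ 2 * (1 ^ 2 - 4 * (a * c * (↑b⁻¹ : A) ^ 2)) := by
      linear_combination (4 * a * c * ((b : A) * ↑b⁻¹ + 1)) * b.mul_inv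
    rw [e, map_mul, h, mul_zero]
  obtain ⟨B, _, _, he, hφ, z, hz, hrel⟩ := exists_root ρ 1 (a * c * (↑b⁻¹ : A) ^ 2) hd'
  obtain ⟨z, rfl⟩ := hz
  refine ⟨B, _, _, he, hφ, algebraMap A B c * algebraMap A B (↑b⁻¹ : A) * (↑z⁻¹ : B), ?_⟩
  have hb' : algebraMap A B (b : A) * algebraMap A B (↑b⁻¹ : A) = 1 := by
    rw [← map_mul, b.mul_inv, map_one]
  rw [map_one, one_mul, map_mul, map_mul, map_pow] at hrel
  linear_combination algebraMap A B c * (↑z⁻¹ : B) ^ 2 * hrel +
    algebraMap A B c * (↑z⁻¹ : B) * hb' -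
    algebraMap A B c * ((↑z⁻¹ : B) + (z : B) * (↑z⁻¹ : B) + 1) * z.mul_inv

end Groth.Agent.EllJIsom
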