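import Groth.Agent.EllJIsom.Etale

/-!
# The three residue characteristics
-/

set_option autoImplicit false

universe u

namespace Groth.Agent.EllJIsom

open WeierstrassCurve

variable {Ω : Type u} [Field Ω] [IsAlgClosed Ω]

lemma ne_zero_of_isUnit {A : Type u} [CommRing A] (ρ : A →+* Ω) {x : A} (h : IsUnit x) : ρ x ≠ 0 :=
  (h.map ρ).ne_zero

lemma scaled {A : Type u} [CommRing A] (u : Aˣ) (W : WeierstrassCurve A) :
    (⟨u, 0, 0, 0⟩ : VariableChange A) • W =
      ⟨(↑u⁻¹ : A) * W.a₁, (↑u⁻¹ : A) ^ 2 * W.a₂, (↑u⁻¹ : A) ^ 3 * W.a₃, (↑u⁻¹ : A) ^ 4 * W.a₄,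
        (↑u⁻¹ : A) ^ 6 * W.a₆⟩ := by
  rw [variableChange_def]
  ext <;> ring

/-- Normal form `y² = x³ + a x + b`, with `6` invertible. -/
theorem six {A : Type u} [CommRing A] (ρ : A →+* Ω) (W W' : WeierstrassCurve A) (h6 : ρ 6 ≠ 0)
    (h : Adm W W') : IsLocIso A ρ W W' := by
  obtain ⟨B, _, _, _, ⟨φ, hφ⟩, h6'⟩ := exists_away ρ h6
  refine IsLocIso.of_etale hφ ?_
  rw [map_ofNat] at h6'
  obtain ⟨i, hi⟩ : ∃ i : B, (6 : B) * i = 1 :=
    ⟨↑h6'.unit⁻¹, h6'.mul_val_inv⟩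
  have short : ∀ V : WeierstrassCurve B, ∃ C : VariableChange B,
      (C • V).a₁ = 0 ∧ (C • V).a₂ = 0 ∧ (C • V).a₃ = 0 := by
    intro V
    let s : B := -(3 * i) * V.a₁
    let r : B := -(2 * i) * (V.a₂ - s * V.a₁ - s ^ 2)
    let t : B := -(3 * i) * (V.a₃ + r * V.a₁)
    refine ⟨⟨1, r, s, t⟩, ?_, ?_, ?_⟩ <;> simp only [variableChange_def, inv_one, Units.val_one]
    · linear_combination (-V.a₁) * hi
    · linear_combination (-(V.a₂ - s * V.a₁ - s ^ 2)) * hi
    · linear_combination (-(V.a₃ + r * V.a₁)) * hi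
  have hB := h.map (algebraMap A B)
  obtain ⟨C, c1, c2, c3⟩ := short (W.map (algebraMap A B))
  obtain ⟨C', d1, d2, d3⟩ := short (W'.map (algebraMap A B))
  refine IsLocIso.smul_left C (IsLocIso.symm (IsLocIso.smul_left C' (IsLocIso.symm ?_)))
  have hA := ((hB.smul C).symm.smul C').symm
  generalize C • W.map (algebraMap A B) = V at c1 c2 c3 hA ⊢
  generalize C' • W'.map (algebraMap A B) = V' at d1 d2 d3 hA ⊢
  obtain ⟨a1, a2, a3, a, b⟩ := V
  obtain ⟨b1, b2, b3, a', b'⟩ := V'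
  simp only at c1 c2 c3 d1 d2 d3
  subst c1 c2 c3 d1 d2 d3
  obtain ⟨hc4, hc4', hc6, hc6', he⟩ := hA
  simp only [WeierstrassCurve.c₄, WeierstrassCurve.c₆, WeierstrassCurve.Δ, WeierstrassCurve.b₂,
    WeierstrassCurve.b₄, WeierstrassCurve.b₆, WeierstrassCurve.b₈] at hc4 hc4' hc6 hc6' he
  ring_nf at hc4 hc4' hc6 hc6'
  obtain ⟨ua, hua⟩ : IsUnit a := isUnit_of_dvd_unit ⟨-48, by ring⟩ hc4
  obtain ⟨ua', hua'⟩ : IsUnit a' := isUnit_of_dvd_unit ⟨-48, by ring⟩ hc4'
  obtain ⟨ub, hub⟩ : IsUnit b := isUnit_of_dvd_unit ⟨-864, by ring⟩ hc6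
  obtain ⟨ub', hub'⟩ : IsUnit b' := isUnit_of_dvd_unit ⟨-864, by ring⟩ hc6'
  have key : a ^ 3 * b' ^ 2 = a' ^ 3 * b ^ 2 := by
    refine (((h6'.pow 2).mul ((h6'.pow 8).mul (h6'.pow 8)))).mul_left_cancel ?_
    have h48 : (48 : B) ^ 3 * 432 * (a ^ 3 * b' ^ 2) = (48 : B) ^ 3 * 432 * (a' ^ 3 * b ^ 2) := by
      linear_combination he
    have e : (6 : B) ^ 2 * (6 ^ 8 * 6 ^ 8) = ((48 : B) ^ 3 * 432) * (3 ^ 12 * 2 ^ 2) := by norm_num
    linear_combination (3 ^ 12 * 2 ^ 2 : B) * h48 + (a ^ 3 * b' ^ 2 - a' ^ 3 * b ^ 2) * e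
  subst hua hua' hub hub'
  let lam : Bˣ := ub * ua' * (ua * ub')⁻¹
  obtain ⟨D, _, _, _, ⟨ψ, hψ⟩, z, hz, hzr⟩ := exists_root φ 0 (-(lam : B)) (by
    rw [show (0 : B) ^ 2 - 4 * -(lam : B) = 4 * lam by ring, map_mul, map_ofNat]
    refine mul_ne_zero ?_ (ne_zero_of_isUnit φ lam.isUnit)
    have h6φ : φ 6 ≠ 0 := ne_zero_of_isUnit φ h6'
    rw [map_ofNat] at h6φ
    intro h4
    exact h6φ (by
      have h2 : (2 : Ω) = 0 := mul_self_eq_zero.mp (by linear_combination h4)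
      linear_combination 3 * h2))
  refine IsLocIso.of_etale hψ ?_
  obtain ⟨z, rfl⟩ := hz
  refine IsLocIso.of_smul_eq ⟨z, 0, 0, 0⟩ ?_
  rw [scaled]
  simp only [map_zero, map_neg, zero_mul, add_zero] at hzr
  have hz2 : (z : D) ^ 2 = algebraMap B D (lam : B) := by linear_combination hzr
  have e4 : (lam : B) ^ 2 * (ua' : B) = ua := by
    have : (lam : B) * (ua * ub') = ub * ua' := by
      rw [← Units.val_mul, ← Units.val_mul, ← Units.val_mul, inv_mul_cancel_right]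
    refine ((ua.isUnit.mul ub'.isUnit).pow 2).mul_left_cancel ?_
    linear_combination (ua' : B) * ((lam : B) * (ua * ub') + ub * ua') * this - key
  have e6 : (lam : B) ^ 3 * (ub' : B) = ub := by
    have : (lam : B) * (ua * ub') = ub * ua' := by
      rw [← Units.val_mul, ← Units.val_mul, ← Units.val_mul, inv_mul_cancel_right]
    refine ((ua.isUnit.mul ub'.isUnit).pow 3).mul_left_cancel ?_
    linear_combination (ub' : B) *
      (((lam : B) * (ua * ub')) ^ 2 + ((lam : B) * (ua * ub')) * (ub * ua') + (ub * ua') ^ 2) * this -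
      (ub : B) * ub' * key
  ext <;> simp only [WeierstrassCurve.map, map_zero, mul_zero]
  · rw [← e4, map_mul, map_pow, ← hz2, ← pow_mul, ← mul_assoc, ← mul_pow, Units.inv_mul, one_pow, one_mul]
  · rw [← e6, map_mul, map_pow, ← hz2, ← pow_mul, ← mul_assoc, ← mul_pow, Units.inv_mul, one_pow, one_mul]

/-- Normal form `y² + x y = x³ + a₆` in residue characteristic `2`. -/
theorem two_norm {A : Type u} [CommRing A] (ρ : A →+* Ω) (W W' : WeierstrassCurve A) (h2 : ρ 2 = 0)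
    (h : IsUnit W.c₄)
    (k : ∀ (B : Type u) [CommRing B] [Algebra A B] (φ : B →+* Ω), φ.comp (algebraMap A B) = ρ →
      ∀ C : VariableChange B, (C • W.map (algebraMap A B)).a₁ = 1 →
        (C • W.map (algebraMap A B)).a₂ = 0 → (C • W.map (algebraMap A B)).a₃ = 0 →
        (C • W.map (algebraMap A B)).a₄ = 0 →
        IsLocIso B φ (C • W.map (algebraMap A B)) (W'.map (algebraMap A B))) :
    IsLocIso A ρ W W' := by
  have ha1 : ρ W.a₁ ≠ 0 := by
    intro h0
    refine ne_zero_of_isUnit ρ h ?_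
    simp only [WeierstrassCurve.c₄, WeierstrassCurve.b₂, WeierstrassCurve.b₄, map_sub, map_add,
      map_mul, map_pow, map_ofNat, h0]
    rw [map_ofNat] at h2
    linear_combination (8 * ρ W.a₂ ^ 2 - 24 * ρ W.a₄) * h2
  -- a₁ becomes 1
  obtain ⟨B1, _, _, _, ⟨φ1, hφ1⟩, hu⟩ := exists_away ρ ha1
  have h21 : φ1 2 = 0 := by rw [map_ofNat]; rwa [map_ofNat] at h2
  let C1 : VariableChange B1 := ⟨hu.unit, 0, 0, 0⟩
  refine IsLocIso.of_etale hφ1 (IsLocIso.smul_left C1 ?_)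
  obtain ⟨a2, a3, a4, a6, hV1⟩ : ∃ a2 a3 a4 a6, C1 • W.map (algebraMap A B1) = ⟨1, a2, a3, a4, a6⟩ := by
    have : (C1 • W.map (algebraMap A B1)).a₁ = 1 := by
      simp only [C1, variableChange_def, mul_zero, add_zero, WeierstrassCurve.map]
      exact hu.val_inv_mul
    exact ⟨_, _, _, _, WeierstrassCurve.ext this rfl rfl rfl rfl⟩
  rw [hV1]
  -- a₃ and a₄ become 0
  obtain ⟨B2a, _, _, _, ⟨φ2a, hφ2a⟩, hlin⟩ := exists_away φ1 (x := 12 * a3 - 4 * a2 - 1) (by
    rw [map_ofNat] at h21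
    simp only [map_sub, map_mul, map_ofNat, map_one]
    intro h0
    exact one_ne_zero (α := Ω) (by linear_combination (6 * φ1 a3 - 2 * φ1 a2) * h21 - h0))
  refine IsLocIso.of_etale hφ2a ?_
  have h22 : φ2a 2 = 0 := by rw [map_ofNat]; rwa [map_ofNat] at h21
  simp only [map_sub, map_mul, map_ofNat, map_one] at hlin
  let f := algebraMap B1 B2a
  obtain ⟨B2, _, _, _, ⟨φ2, hφ2⟩, t, ht⟩ := exists_root' φ2a 12 _
    (3 * f a3 ^ 2 - 2 * f a2 * f a3 + f a4) hlin (by
      rw [map_ofNat] at h22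
      simp only [map_sub, map_add, map_mul, map_pow, map_ofNat, map_one]
      intro h0
      refine one_ne_zero (α := Ω) ?_
      linear_combination h0 - ((6 * φ2a (f a3) - 2 * φ2a (f a2)) * (12 * φ2a (f a3) - 4 * φ2a (f a2) - 2)
        - 24 * (3 * φ2a (f a3) ^ 2 - 2 * φ2a (f a2) * φ2a (f a3) + φ2a (f a4))) * h22)
  refine IsLocIso.of_etale hφ2 ?_
  have h23 : φ2 2 = 0 := by rw [map_ofNat]; rwa [map_ofNat] at h22
  let g := (algebraMap B2a B2).comp f
  let C2 : VariableChange B2 := ⟨1, -(g a3) - 2 * t, 0, t⟩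
  refine IsLocIso.smul_left C2 ?_
  obtain ⟨b2, b6, hV2⟩ : ∃ b2 b6, C2 • ((⟨1, a2, a3, a4, a6⟩ : WeierstrassCurve B1).map f).map (algebraMap B2a B2) =
      ⟨1, b2, 0, 0, b6⟩ := by
    refine ⟨_, _, WeierstrassCurve.ext ?_ rfl ?_ ?_ rfl⟩ <;>
      simp only [C2, variableChange_def, inv_one, Units.val_one, WeierstrassCurve.map, map_one]
    · ring
    · simp only [g, RingHom.comp_apply]; ring
    · simp only [map_sub, map_add, map_mul, map_pow, map_ofNat, map_one] at ht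
      simp only [g, RingHom.comp_apply]
      linear_combination ht
  rw [hV2]
  -- a₂ becomes 0
  obtain ⟨B3a, _, _, _, ⟨φ3a, hφ3a⟩, hdisc⟩ := exists_away φ2 (x := 1 + 4 * b2) (by
    rw [map_ofNat] at h23
    simp only [map_add, map_mul, map_ofNat, map_one]
    intro h0
    exact one_ne_zero (α := Ω) (by linear_combination h0 - 2 * φ2 b2 * h23))
  refine IsLocIso.of_etale hφ3a ?_
  simp only [map_add, map_mul, map_ofNat, map_one] at hdisc
  let c := algebraMap B2 B3a b2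
  obtain ⟨B3, _, _, _, ⟨φ3, hφ3⟩, s, -, hs⟩ := exists_root φ3a 1 (-c) (by
    rw [show (1 : B3a) ^ 2 - 4 * -c = 1 + 4 * c by ring]
    exact ne_zero_of_isUnit φ3a hdisc)
  refine IsLocIso.of_etale hφ3 ?_
  simp only [map_one, map_neg, one_mul] at hs
  have hs1 : IsUnit (1 + 2 * s) := by
    refine isUnit_of_dvd_unit ⟨1 + 2 * s, ?_⟩ (hdisc.map (algebraMap B3a B3))
    rw [map_add, map_mul, map_ofNat, map_one]
    linear_combination (-4 : B3) * hs
  let C3 : VariableChange B3 := ⟨hs1.unit, 0, s, 0⟩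
  refine IsLocIso.smul_left C3 ?_
  -- recombine
  let F : A →+* B3 := ((((algebraMap B3a B3).comp (algebraMap B2 B3a)).comp (algebraMap B2a B2)).comp f).comp (algebraMap A B1)
  let : Algebra A B3 := F.toAlgebra
  have hφF : φ3.comp (algebraMap A B3) = ρ := by
    show φ3.comp F = ρ
    simp only [F, f, ← RingHom.comp_assoc, hφ3, hφ3a, hφ2, hφ2a, hφ1]
  let C : VariableChange B3 := C3 *
    ((C2.map (algebraMap B2 B3a)).map (algebraMap B3a B3) *
      ((((C1.map f).map (algebraMap B2a B2)).map (algebraMap B2 B3a)).map (algebraMap B3a B3)))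
  have hC : C • W.map (algebraMap A B3) =
      C3 • (((⟨1, b2, 0, 0, b6⟩ : WeierstrassCurve B2).map (algebraMap B2 B3a)).map (algebraMap B3a B3)) := by
    rw [← hV2, ← hV1, ← map_variableChange, ← map_variableChange, ← map_variableChange,
      ← map_variableChange, ← map_variableChange, ← map_variableChange]
    simp only [C, mul_smul]
    rfl
  have hk := k B3 φ3 hφF C ?_ ?_ ?_ ?_
  · rw [hC] at hk; exact hk
  all_goals rw [hC]; simp only [C3, variableChange_def, WeierstrassCurve.map, map_one, map_zero]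
  · exact hs1.val_inv_mul
  · rw [show algebraMap B3a B3 (algebraMap B2 B3a b2) - s * 1 + 3 * 0 - s ^ 2 = 0 by
      linear_combination -hs, mul_zero]
  · ring
  · ring

/-- Residue characteristic two. -/
theorem two {A : Type u} [CommRing A] (ρ : A →+* Ω) (W W' : WeierstrassCurve A) (h2 : ρ 2 = 0)
    (h : Adm W W') : IsLocIso A ρ W W' := by
  refine two_norm ρ W W' h2 h.c4 fun B _ _ φ hφ C c1 c2 c3 c4 => ?_
  have hB := (h.map (algebraMap A B)).smul C
  generalize C • W.map (algebraMap A B) = V at c1 c2 c3 c4 hB ⊢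
  have h2' : φ 2 = 0 := by rw [map_ofNat]; rwa [map_ofNat] at h2
  refine IsLocIso.symm (two_norm φ _ V h2' hB.c4' fun D _ _ ψ hψ C' d1 d2 d3 d4 => ?_)
  have hD := ((hB.map (algebraMap B D)).symm.smul C').symm
  generalize C' • (W'.map (algebraMap A B)).map (algebraMap B D) = V' at d1 d2 d3 d4 hD ⊢
  have h2'' : ψ 2 = 0 := by rw [map_ofNat]; rwa [map_ofNat] at h2'
  obtain ⟨v1, v2, v3, v4, a⟩ := V
  obtain ⟨w1, w2, w3, w4, a'⟩ := V'
  simp only at c1 c2 c3 c4 d1 d2 d3 d4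
  subst c1 c2 c3 c4 d1 d2 d3 d4
  obtain ⟨E, _, _, _, ⟨χ, hχ⟩, hu⟩ := exists_away ψ (x := 1 + 432 * (algebraMap B D a + a')) (by
    rw [map_ofNat] at h2''
    simp only [map_add, map_mul, map_ofNat, map_one]
    intro h0
    exact one_ne_zero (α := Ω) (by
      linear_combination h0 - 216 * (ψ (algebraMap B D a) + ψ a') * h2''))
  refine IsLocIso.of_etale hχ ?_
  have he := congrArg (algebraMap D E) hD.eq
  simp only [WeierstrassCurve.c₄, WeierstrassCurve.Δ, WeierstrassCurve.b₂, WeierstrassCurve.b₄,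
    WeierstrassCurve.b₆, WeierstrassCurve.b₈, WeierstrassCurve.map, map_sub, map_add, map_mul,
    map_pow, map_ofNat, map_one, map_zero, map_neg] at he
  simp only [map_add, map_mul, map_ofNat, map_one] at hu
  have : algebraMap D E a' = algebraMap D E (algebraMap B D a) := by
    refine hu.mul_left_cancel ?_
    linear_combination -he
  refine IsLocIso.of_smul_eq 1 ?_
  rw [one_smul]
  simp only [WeierstrassCurve.map, map_one, map_zero, this]

/-- Normal form `y² = x³ + x² + a₆` in residue characteristic `3`. -/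
theorem three_norm {A : Type u} [CommRing A] (ρ : A →+* Ω) (W W' : WeierstrassCurve A) (h3 : ρ 3 = 0)
    (h : IsUnit W.c₄)
    (k : ∀ (B : Type u) [CommRing B] [Algebra A B] (φ : B →+* Ω), φ.comp (algebraMap A B) = ρ →
      IsUnit (2 : B) →
      ∀ C : VariableChange B, (C • W.map (algebraMap A B)).a₁ = 0 →
        (C • W.map (algebraMap A B)).a₂ = 1 → (C • W.map (algebraMap A B)).a₃ = 0 →
        (C • W.map (algebraMap A B)).a₄ = 0 →
        IsLocIso B φ (C • W.map (algebraMap A B)) (W'.map (algebraMap A B))) :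
    IsLocIso A ρ W W' := by
  obtain ⟨B1, _, _, _, ⟨φ1, hφ1⟩, hu⟩ := exists_away ρ (x := 2) (by
    rw [map_ofNat] at h3 ⊢
    intro h0
    exact one_ne_zero (α := Ω) (by linear_combination h3 - h0))
  rw [map_ofNat] at hu
  obtain ⟨i, hi⟩ : ∃ i : B1, (2 : B1) * i = 1 := ⟨↑hu.unit⁻¹, hu.mul_val_inv⟩
  let C1 : VariableChange B1 := ⟨1, 0, -i * algebraMap A B1 W.a₁, -i * algebraMap A B1 W.a₃⟩
  refine IsLocIso.of_etale hφ1 (IsLocIso.smul_left C1 ?_)
  obtain ⟨a2, a4, a6, hV1⟩ : ∃ a2 a4 a6, C1 • W.map (algebraMap A B1) = ⟨0, a2, 0, a4, a6⟩ := by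
    refine ⟨_, _, _, WeierstrassCurve.ext ?_ rfl ?_ rfl rfl⟩ <;>
      simp only [C1, variableChange_def, inv_one, Units.val_one, WeierstrassCurve.map]
    · linear_combination (-algebraMap A B1 W.a₁) * hi
    · linear_combination (-algebraMap A B1 W.a₃) * hi
  rw [hV1]
  have hc : φ1 (C1 • W.map (algebraMap A B1)).c₄ ≠ 0 := by
    refine ne_zero_of_isUnit φ1 ?_
    rw [variableChange_c₄, map_c₄]
    exact (C1.u⁻¹.isUnit.pow 4).mul (h.map _)
  rw [hV1] at hc
  have h31 : φ1 3 = 0 := by rw [map_ofNat]; rwa [map_ofNat] at h3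
  rw [map_ofNat] at h31
  simp only [WeierstrassCurve.c₄, WeierstrassCurve.b₂, WeierstrassCurve.b₄, map_sub, map_add,
    map_mul, map_pow, map_ofNat, map_zero] at hc
  have ha2 : φ1 a2 ≠ 0 := fun h0 => hc (by rw [h0]; linear_combination (-16 * φ1 a4) * h31)
  obtain ⟨B2a, _, _, _, ⟨φ2a, hφ2a⟩, ha2'⟩ := exists_away φ1 (x := 2 * a2)
    (by rw [map_mul]; exact mul_ne_zero (ne_zero_of_isUnit φ1 hu) ha2)
  refine IsLocIso.of_etale hφ2a ?_
  rw [map_mul, map_ofNat] at ha2'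
  have h32 : (3 : Ω) = 0 := h31
  let f := algebraMap B1 B2a
  obtain ⟨B2, _, _, _, ⟨φ2, hφ2⟩, r, hr⟩ := exists_root' φ2a 3 (2 * f a2) (f a4) ha2' (by
    simp only [map_sub, map_mul, map_pow, map_ofNat]
    intro h0
    refine pow_ne_zero 2 (mul_ne_zero (ne_zero_of_isUnit φ1 hu) ha2) (?_ : (φ1 2 * φ1 a2) ^ 2 = 0)
    rw [← hφ2a]
    simp only [RingHom.comp_apply, map_ofNat]
    linear_combination h0 + 4 * φ2a (f a4) * h32)
  refine IsLocIso.of_etale hφ2 ?_
  let C2 : VariableChange B2 := ⟨1, r, 0, 0⟩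
  refine IsLocIso.smul_left C2 ?_
  obtain ⟨b2, b6, hV2, hb2⟩ : ∃ b2 b6, C2 • ((⟨0, a2, 0, a4, a6⟩ : WeierstrassCurve B1).map f).map (algebraMap B2a B2) =
      ⟨0, b2, 0, 0, b6⟩ ∧ b2 = algebraMap B2a B2 (f a2) + 3 * r := by
    refine ⟨_, _, WeierstrassCurve.ext ?_ rfl ?_ ?_ rfl, ?_⟩ <;>
      simp only [C2, variableChange_def, inv_one, Units.val_one, WeierstrassCurve.map, map_zero]
    · ring
    · ring
    · simp only [map_mul, map_ofNat] at hr; linear_combination hr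
    · ring
  rw [hV2]
  obtain ⟨B3a, _, _, _, ⟨φ3a, hφ3a⟩, hb2u⟩ := exists_away φ2 (x := b2) (by
    rw [hb2, map_add, map_mul, map_ofNat, h32, zero_mul, add_zero, ← RingHom.comp_apply, hφ2,
      ← RingHom.comp_apply, hφ2a]
    exact ha2)
  refine IsLocIso.of_etale hφ3a ?_
  let c := algebraMap B2 B3a b2
  obtain ⟨B3, _, _, _, ⟨φ3, hφ3⟩, w, hw, hwr⟩ := exists_root φ3a 0 (-c) (by
    rw [show (0 : B3a) ^ 2 - 4 * -c = 4 * c by ring, map_mul, map_ofNat]
    refine mul_ne_zero (fun h0 => one_ne_zero (α := Ω) ?_) (ne_zero_of_isUnit φ3a hb2u)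
    linear_combination h0 - h32)
  refine IsLocIso.of_etale hφ3 ?_
  obtain ⟨w, rfl⟩ := hw
  simp only [map_zero, map_neg, zero_mul, add_zero] at hwr
  let C3 : VariableChange B3 := ⟨w, 0, 0, 0⟩
  refine IsLocIso.smul_left C3 ?_
  let F : A →+* B3 := ((((algebraMap B3a B3).comp (algebraMap B2 B3a)).comp (algebraMap B2a B2)).comp f).comp (algebraMap A B1)
  let : Algebra A B3 := F.toAlgebra
  have hφF : φ3.comp (algebraMap A B3) = ρ := by
    show φ3.comp F = ρ
    simp only [F, f, ← RingHom.comp_assoc, hφ3, hφ3a, hφ2, hφ2a, hφ1]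
  let C : VariableChange B3 := C3 *
    ((C2.map (algebraMap B2 B3a)).map (algebraMap B3a B3) *
      ((((C1.map f).map (algebraMap B2a B2)).map (algebraMap B2 B3a)).map (algebraMap B3a B3)))
  have hC : C • W.map (algebraMap A B3) =
      C3 • (((⟨0, b2, 0, 0, b6⟩ : WeierstrassCurve B2).map (algebraMap B2 B3a)).map (algebraMap B3a B3)) := by
    rw [← hV2, ← hV1, ← map_variableChange, ← map_variableChange, ← map_variableChange,
      ← map_variableChange, ← map_variableChange, ← map_variableChange]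
    simp only [C, mul_smul]
    rfl
  have hk := k B3 φ3 hφF ?_ C ?_ ?_ ?_ ?_
  · rw [hC] at hk; exact hk
  · have := hu.map ((((algebraMap B3a B3).comp (algebraMap B2 B3a)).comp (algebraMap B2a B2)).comp f)
    rwa [map_ofNat] at this
  all_goals rw [hC]; simp only [C3, scaled, WeierstrassCurve.map, map_zero, mul_zero]
  rw [show algebraMap B3a B3 (algebraMap B2 B3a b2) = (w : B3) ^ 2 by linear_combination -hwr,
    ← mul_pow, Units.inv_mul, one_pow]

/-- Residue characteristic three. -/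
theorem three {A : Type u} [CommRing A] (ρ : A →+* Ω) (W W' : WeierstrassCurve A) (h3 : ρ 3 = 0)
    (h : Adm W W') : IsLocIso A ρ W W' := by
  refine three_norm ρ W W' h3 h.c4 fun B _ _ φ hφ hu2 C c1 c2 c3 c4 => ?_
  have hB := (h.map (algebraMap A B)).smul C
  generalize C • W.map (algebraMap A B) = V at c1 c2 c3 c4 hB ⊢
  have h3' : φ 3 = 0 := by rw [map_ofNat]; rwa [map_ofNat] at h3
  refine IsLocIso.symm (three_norm φ _ V h3' hB.c4' fun D _ _ ψ hψ _ C' d1 d2 d3 d4 => ?_)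
  have hD := ((hB.map (algebraMap B D)).symm.smul C').symm
  generalize C' • (W'.map (algebraMap A B)).map (algebraMap B D) = V' at d1 d2 d3 d4 hD ⊢
  have h3'' : ψ 3 = 0 := by rw [map_ofNat]; rwa [map_ofNat] at h3'
  obtain ⟨v1, v2, v3, v4, a⟩ := V
  obtain ⟨w1, w2, w3, w4, a'⟩ := V'
  simp only at c1 c2 c3 c4 d1 d2 d3 d4
  subst c1 c2 c3 c4 d1 d2 d3 d4
  obtain ⟨E, _, _, _, ⟨χ, hχ⟩, hu⟩ := exists_away ψ (x := 4096 * (64 + 432 * (algebraMap B D a + a'))) (by
    rw [map_ofNat] at h3''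
    simp only [map_add, map_mul, map_ofNat]
    intro h0
    exact one_ne_zero (α := Ω) (by
      linear_combination h0 - (87381 + 589824 * (ψ (algebraMap B D a) + ψ a')) * h3''))
  refine IsLocIso.of_etale hχ ?_
  have he := congrArg (algebraMap D E) hD.eq
  simp only [WeierstrassCurve.c₄, WeierstrassCurve.Δ, WeierstrassCurve.b₂, WeierstrassCurve.b₄,
    WeierstrassCurve.b₆, WeierstrassCurve.b₈, WeierstrassCurve.map, map_sub, map_add, map_mul,
    map_pow, map_ofNat, map_one, map_zero, map_neg] at he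
  simp only [map_add, map_mul, map_ofNat] at hu
  have : algebraMap D E a' = algebraMap D E (algebraMap B D a) := by
    refine hu.mul_left_cancel ?_
    linear_combination -he
  refine IsLocIso.of_smul_eq 1 ?_
  rw [one_smul]
  simp only [WeierstrassCurve.map, map_one, map_zero, this]

end Groth.Agent.EllJIsom
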